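import Cfsg.Agent.LyRep96.Checks

/-!
The 111-dimensional representation of the presented Lyons group over the field with five elements
and its certified evaluator on packed matrices and vectors. Letter `2 * g` is the generator number
`g`, letter `2 * g + 1` its inverse.
-/

set_option autoImplicit false
set_option maxRecDepth 100000

namespace CfsgLib.LyRep96

open Cfsg.Spor Matrix

local instance : Fact (Nat.Prime 5) := ⟨by norm_num⟩

/-- the matrix of a letter -/
noncomputable def M (x : ℕ) : Matrix (Fin 111) (Fin 111) (ZMod 5) := matOf (matL x)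

/-- the generator of a number -/
def genOf : ℕ → Ly.Gen
  | 0 => .a
  | 1 => .b
  | 2 => .c
  | 3 => .d
  | 4 => .z
  | 5 => .e
  | 6 => .a1
  | 7 => .a2
  | 8 => .a3
  | 9 => .a4
  | 10 => .c1
  | 11 => .c2
  | 12 => .c3
  | 13 => .c4
  | 14 => .c5
  | 15 => .u
  | 16 => .x23
  | 17 => .x24
  | 18 => .x25
  | 19 => .x29
  | 20 => .x47
  | 21 => .x96
  | 22 => .x129
  | 23 => .x162
  | 24 => .x163
  | 25 => .x164
  | 26 => .x165
  | 27 => .x166
  | 28 => .x167
  | 29 => .x168
  | 30 => .x169
  | 31 => .x364
  | 32 => .x365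
  | 33 => .x366
  | 34 => .x367
  | 35 => .x368
  | 36 => .x369
  | 37 => .x370
  | _ => .x371

theorem genOf_genNum (g : Ly.Gen) : genOf (genNum g) = g := by cases g <;> rfl

theorem genNum_lt (g : Ly.Gen) : genNum g < 39 := by cases g <;> decide

theorem enc_lt (p : Ly.Gen × Bool) : enc p < 78 := by
  have := genNum_lt p.1
  unfold enc
  split_ifs <;> omega

theorem matL_min (x : ℕ) : matL x = matL (min x 77) := by
  rcases Nat.lt_or_ge x 78 with h | h
  · rw [min_eq_left (by omega)]
  · rw [min_eq_right (by omega)]
    obtain ⟨n, rfl⟩ : ∃ n, x = n + 78 := ⟨x - 78, by omega⟩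
    rfl

theorem shape_all (x : ℕ) : shapeOK (matL x) = true := by
  rw [matL_min]
  exact List.all_eq_true.mp shapes _ (List.mem_range.mpr (by omega))

theorem runM_one (w : List ℕ) : runM matL w oneS = packM (w.map M).prod := by
  rw [← packM_one, runM_packM matL shape_all, one_mul]
  rfl

theorem prod_eq {w w' : List ℕ} (h : sameOK w w' = true) : (w.map M).prod = (w'.map M).prod := by
  rw [sameOK, Nat.beq_eq, runM_one, runM_one] at h
  exact packM_inj h

theorem prod_one {w : List ℕ} (h : idOK w = true) : (w.map M).prod = 1 := by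
  rw [idOK, Nat.beq_eq, runM_one, ← packM_one] at h
  exact packM_inj h

theorem inv_word {x : ℕ} (hx : x < 78) : M x * M (invL x) = 1 := by
  simpa using prod_one (List.all_eq_true.mp inverses x (List.mem_range.mpr hx))

theorem invL_enc (g : Ly.Gen) :
    invL (enc (g, true)) = enc (g, false) ∧ invL (enc (g, false)) = enc (g, true) := by
  cases g <;> exact ⟨rfl, rfl⟩

/-- the image of a generator -/
noncomputable def gen (g : Ly.Gen) : GL (Fin 111) (ZMod 5) :=
  ⟨M (enc (g, true)), M (enc (g, false)),
    (invL_enc g).1 ▸ inv_word (enc_lt _), (invL_enc g).2 ▸ inv_word (enc_lt _)⟩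

theorem lift_val (r : FreeGroup Ly.Gen) :
    (FreeGroup.lift gen r).1 = ((r.toWord.map enc).map M).prod := by
  conv_lhs => rw [← FreeGroup.mk_toWord (x := r), FreeGroup.lift_mk]
  induction r.toWord with
  | nil => simp
  | cons p l ih =>
    obtain ⟨g, b⟩ := p
    rw [List.map_cons, List.prod_cons, List.map_cons, List.map_cons, List.prod_cons,
      Units.val_mul, ih]
    cases b <;> rfl

theorem rel_all (i : ℕ) (hi : i < 86) : idOK (relWord i) = true := by
  rcases Nat.lt_or_ge i 44 with h | h
  · exact List.all_eq_true.mp relsA i (List.mem_range'_1.mpr ⟨Nat.zero_le _, by omega⟩)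
  · rcases Nat.lt_or_ge i 72 with h' | h'
    · exact List.all_eq_true.mp relsB i (List.mem_range'_1.mpr ⟨h, by omega⟩)
    · exact List.all_eq_true.mp relsC i (List.mem_range'_1.mpr ⟨h', by omega⟩)

theorem relators_one :
    ∀ r ∈ coxRelators Ly.edges ∪ {r | r ∈ Ly.extra}, FreeGroup.lift gen r = 1 := by
  intro r hr
  have hr' : r ∈ Ly.extra := by
    simpa [coxRelators, coxNodes, Ly.edges] using hr
  obtain ⟨i, hi, rfl⟩ := List.getElem_of_mem hr'
  refine Units.ext ?_
  rw [lift_val, ← List.getD_eq_getElem Ly.extra 1 hi]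
  exact prod_one (rel_all i (lt_of_lt_of_le hi (le_of_eq extra_length)))

/-- the representation -/
noncomputable def rep : Cfsg.Spor.Ly →* GL (Fin 111) (ZMod 5) :=
  PresentedGroup.toGroup relators_one

/-- the value of a letter in the presented group -/
def letter (x : ℕ) : Cfsg.Spor.Ly :=
  if min x 77 % 2 = 0 then PresentedGroup.of (genOf (min x 77 / 2))
  else (PresentedGroup.of (genOf (min x 77 / 2)))⁻¹

theorem rep_letter (x : ℕ) :
    ((rep (letter x) : GL (Fin 111) (ZMod 5)) : Matrix (Fin 111) (Fin 111) (ZMod 5)) = M x := by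
  have h : ∀ g : Ly.Gen, rep (PresentedGroup.of g) = gen g := fun g => PresentedGroup.toGroup.of _
  have hM : M x = M (min x 77) := by rw [M, M, ← matL_min]
  rw [hM, letter]
  have hm : min x 77 < 78 := by omega
  generalize min x 77 = m at hm ⊢
  have hg : genNum (genOf (m / 2)) = m / 2 := by
    have : m / 2 < 39 := by omega
    interval_cases m / 2 <;> rfl
  by_cases he : m % 2 = 0
  · rw [if_pos he, h]
    show M (enc (genOf (m / 2), true)) = M m
    simp only [enc, if_true, hg, show 2 * (m / 2) = m by omega]
  · rw [if_neg he, map_inv, h]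
    show M (enc (genOf (m / 2), false)) = M m
    simp only [enc, Bool.false_eq_true, if_false, hg, show 2 * (m / 2) + 1 = m by omega]

theorem rep_prod : ∀ w : List ℕ,
    ((rep (w.map letter).prod : GL (Fin 111) (ZMod 5)) : Matrix (Fin 111) (Fin 111) (ZMod 5)) =
      (w.map M).prod
  | [] => by simp
  | x :: w => by
    simp only [List.map_cons, List.prod_cons, map_mul, Units.val_mul, rep_letter, rep_prod w]

/-- word equality test -/
theorem rep_eq_of_sameOK {w w' : List ℕ} (h : sameOK w w' = true) :
    rep (w.map letter).prod = rep (w'.map letter).prod :=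
  Units.ext (by rw [rep_prod, rep_prod, prod_eq h])

/-- identity test -/
theorem rep_one_of_idOK {w : List ℕ} (h : idOK w = true) : rep (w.map letter).prod = 1 :=
  Units.ext (by rw [rep_prod, prod_one h, Units.val_one])

/-- the test is exact -/
theorem rep_ne_of_not_sameOK {w w' : List ℕ} (h : sameOK w w' = false) :
    rep (w.map letter).prod ≠ rep (w'.map letter).prod := fun e => by
  have e' : (w.map M).prod = (w'.map M).prod := by rw [← rep_prod, ← rep_prod, e]
  rw [sameOK, runM_one, runM_one, e', Nat.beq_refl] at h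
  exact Bool.noConfusion h

/-- the identity test is exact -/
theorem rep_ne_one_of_not_idOK {w : List ℕ} (h : idOK w = false) :
    rep (w.map letter).prod ≠ 1 := fun e => by
  rw [idOK, runM_one, ← rep_prod, e, Units.val_one, packM_one, Nat.beq_refl] at h
  exact Bool.noConfusion h

theorem rep_ne_one : rep ≠ 1 := fun h => by
  refine rep_ne_one_of_not_idOK a_not_one ?_
  rw [h, MonoidHom.one_apply]

/-- a packed vector -/
def packV (v : Fin 111 → ZMod 5) : ℕ :=
  dig B 111 fun j => if h : j < 111 then (v ⟨j, h⟩).val else 0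

/-- the matrix with first row `v` and all other rows zero -/
def rowMat (v : Fin 111 → ZMod 5) : Matrix (Fin 111) (Fin 111) (ZMod 5) :=
  Matrix.of fun i j => if (i : ℕ) = 0 then v j else 0

theorem packV_eq (v : Fin 111 → ZMod 5) : packV v = packM (rowMat v) := by
  have e : packM (rowMat v) = dig RB 111 fun i => if i = 0 then packV v else 0 := by
    refine dig_congr _ _ _ fun i hi => ?_
    by_cases h : i = 0
    · subst h
      rw [if_pos rfl]
      refine dig_congr _ _ _ fun j hj => ?_
      rw [entry, dif_pos ⟨hi, hj⟩, dif_pos hj]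
      rfl
    · rw [if_neg h, dig_congr 111 _ (fun _ => 0) fun j hj => ?_, dig_zero]
      rw [entry, dif_pos ⟨hi, hj⟩]
      simp [rowMat, h]
  rw [e]
  have key : ∀ n : ℕ, (dig RB (n + 1) fun i => if i = 0 then packV v else 0) = packV v := fun n => by
    rw [dig, if_pos rfl, dig_congr n _ (fun _ => 0) fun j _ => if_neg (Nat.succ_ne_zero j),
      dig_zero, Nat.mul_zero, Nat.add_zero]
  exact (key 110).symm

theorem packV_inj {v v' : Fin 111 → ZMod 5} (h : packV v = packV v') : v = v' := by
  rw [packV_eq, packV_eq] at h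
  funext j
  simpa [rowMat] using congrFun (congrFun (packM_inj h) 0) j

/-- the evaluator on vectors: a word acts from the right, its first letter first -/
theorem runM_packV (w : List ℕ) (v : Fin 111 → ZMod 5) :
    runM matL w (packV v) = packV (v ᵥ* ((rep (w.map letter).prod : GL (Fin 111) (ZMod 5)) :
      Matrix (Fin 111) (Fin 111) (ZMod 5))) := by
  rw [packV_eq, packV_eq, runM_packM matL shape_all, rep_prod]
  refine congrArg packM (Matrix.ext fun i j => ?_)
  rw [Matrix.mul_apply]
  by_cases h : (i : ℕ) = 0
  · simp only [rowMat, Matrix.of_apply, h, if_true, Matrix.vecMul, dotProduct]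
    rfl
  · simp only [rowMat, Matrix.of_apply, h, if_false, zero_mul, Finset.sum_const_zero]

end CfsgLib.LyRep96
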