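import Cfsg.Agent.LyRep96.Words

/-! Kernel checks: shapes, inverses and the relators of the presented Lyons group. -/

set_option autoImplicit false
set_option maxRecDepth 100000

namespace CfsgLib.LyRep96

theorem shapes : (List.range 78).all (fun x => shapeOK (matL x)) = true := by
  decide +kernel

theorem inverses : (List.range 78).all (fun x => idOK [x, invL x]) = true := by
  decide +kernel

theorem extra_length : Cfsg.Spor.Ly.extra.length = 86 := by
  decide +kernel

theorem relsA : (List.range' 0 44).all (fun i => idOK (relWord i)) = true := by
  decide +kernel

theorem relsB : (List.range' 44 28).all (fun i => idOK (relWord i)) = true := by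
  decide +kernel

theorem relsC : (List.range' 72 14).all (fun i => idOK (relWord i)) = true := by
  decide +kernel

/-- the first generator does not act as the identity -/
theorem a_not_one : idOK [0] = false := by
  decide +kernel

end CfsgLib.LyRep96
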