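import Cfsg.Agent.LyRep96.Data0
import Cfsg.Agent.LyRep96.Data1
import Cfsg.Agent.LyRep96.Data2
import Cfsg.Agent.LyRep96.Data3
import Cfsg.Agent.LyRep96.Data4
import Cfsg.Agent.LyRep96.Data5

/-! Generated: the letters `2 * g` and `2 * g + 1` of the generator number `g` and its inverse. -/

set_option autoImplicit false

namespace CfsgLib.LyRep96

/-- the matrix of a letter -/
def matL : ℕ → List ℕ
  | 0 => mat0
  | 1 => mat1
  | 2 => mat2
  | 3 => mat3
  | 4 => mat4
  | 5 => mat5
  | 6 => mat6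
  | 7 => mat7
  | 8 => mat8
  | 9 => mat9
  | 10 => mat10
  | 11 => mat11
  | 12 => mat12
  | 13 => mat13
  | 14 => mat14
  | 15 => mat15
  | 16 => mat16
  | 17 => mat17
  | 18 => mat18
  | 19 => mat19
  | 20 => mat20
  | 21 => mat21
  | 22 => mat22
  | 23 => mat23
  | 24 => mat24
  | 25 => mat25
  | 26 => mat26
  | 27 => mat27
  | 28 => mat28
  | 29 => mat29
  | 30 => mat30
  | 31 => mat31
  | 32 => mat32
  | 33 => mat33
  | 34 => mat34
  | 35 => mat35
  | 36 => mat36
  | 37 => mat37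
  | 38 => mat38
  | 39 => mat39
  | 40 => mat40
  | 41 => mat41
  | 42 => mat42
  | 43 => mat43
  | 44 => mat44
  | 45 => mat45
  | 46 => mat46
  | 47 => mat47
  | 48 => mat48
  | 49 => mat49
  | 50 => mat50
  | 51 => mat51
  | 52 => mat52
  | 53 => mat53
  | 54 => mat54
  | 55 => mat55
  | 56 => mat56
  | 57 => mat57
  | 58 => mat58
  | 59 => mat59
  | 60 => mat60
  | 61 => mat61
  | 62 => mat62
  | 63 => mat63
  | 64 => mat64
  | 65 => mat65
  | 66 => mat66
  | 67 => mat67
  | 68 => mat68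
  | 69 => mat69
  | 70 => mat70
  | 71 => mat71
  | 72 => mat72
  | 73 => mat73
  | 74 => mat74
  | 75 => mat75
  | 76 => mat76
  | _ => mat77

end CfsgLib.LyRep96
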