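import Mathlib

/-!
Matrices over the field with five elements as single natural numbers: 22 bits for each entry, the
entries row after row. A product with a second matrix, given by its packed rows, is a sum of 111
outer products, each a single multiplication, followed by one slotwise reduction.
-/

set_option autoImplicit false

namespace CfsgLib.LyRep96

open Matrix

local instance : Fact (Nat.Prime 5) := ⟨by norm_num⟩

/-- `n` slots of base `b` as one number -/
def dig (b : ℕ) : ℕ → (ℕ → ℕ) → ℕ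
  | 0, _ => 0
  | n + 1, d => d 0 + b * dig b n fun j => d (j + 1)

/-- ones in `n` slots of base `b` -/
def geom (b n : ℕ) : ℕ := (b ^ n - 1) / (b - 1)

/-- the slot base -/
abbrev B : ℕ := 2 ^ 22

/-- the base of a row -/
abbrev RB : ℕ := B ^ 111

/-- the first slot of every row -/
def colMask : ℕ := (B - 1) * geom RB 111

/-- the low nine bits of every slot -/
def mask : ℕ := 511 * geom B 12321

/-- slotwise reduction modulo 5 -/
def red (X : ℕ) : ℕ := X - 5 * (((X * 1639) >>> 13) &&& mask)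

/-- a packed matrix times the matrix of a list of packed rows, not reduced -/
def prodRows : List ℕ → ℕ → ℕ
  | [], _ => 0
  | r :: R, S => (S &&& colMask) * r + prodRows R (S >>> 22)

/-- a packed matrix times a matrix -/
def stepM (R : List ℕ) (S : ℕ) : ℕ := red (prodRows R S)

/-- a packed matrix times a word in matrices -/
def runM (A : ℕ → List ℕ) : List ℕ → ℕ → ℕ
  | [], S => S
  | x :: w, S => runM A w (stepM (A x) S)

/-- the packed identity -/
def oneS : ℕ := geom (RB * B) 111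

/-- the rows are in range and reduced -/
def shapeOK (R : List ℕ) : Bool :=
  Nat.beq R.length 111 && R.all fun r => Nat.beq (r &&& 7 * geom B 111) r && Nat.beq (red r) r

section Dig

variable {b : ℕ}

theorem dig_congr : ∀ (n : ℕ) (d e : ℕ → ℕ), (∀ j < n, d j = e j) → dig b n d = dig b n e
  | 0, _, _, _ => rfl
  | n + 1, d, e, h => by
    rw [dig, dig, h 0 (Nat.succ_pos n), dig_congr n _ _ fun j hj => h (j + 1) (Nat.succ_lt_succ hj)]

theorem dig_zero : ∀ n : ℕ, (dig b n fun _ => 0) = 0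
  | 0 => rfl
  | n + 1 => by simp [dig, dig_zero n]

theorem dig_add : ∀ (n : ℕ) (d e : ℕ → ℕ), dig b n d + dig b n e = dig b n fun j => d j + e j
  | 0, _, _ => rfl
  | n + 1, d, e => by
    rw [dig, dig, dig, ← dig_add n (fun j => d (j + 1)) (fun j => e (j + 1))]
    ring

theorem dig_mul : ∀ (n a : ℕ) (d : ℕ → ℕ), a * dig b n d = dig b n fun j => a * d j
  | 0, a, _ => Nat.mul_zero a
  | n + 1, a, d => by
    rw [dig, dig, ← dig_mul n a fun j => d (j + 1)]
    ring

theorem dig_mul_right (n a : ℕ) (d : ℕ → ℕ) : dig b n d * a = dig b n fun j => d j * a := by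
  rw [Nat.mul_comm, dig_mul]
  exact dig_congr _ _ _ fun j _ => Nat.mul_comm _ _

theorem dig_lt (hb : 0 < b) : ∀ (n : ℕ) (d : ℕ → ℕ), (∀ j < n, d j < b) → dig b n d < b ^ n
  | 0, _, _ => by simp [dig]
  | n + 1, d, hd => by
    have h := dig_lt hb n (fun j => d (j + 1)) fun j hj => hd (j + 1) (Nat.succ_lt_succ hj)
    have h0 := hd 0 (Nat.succ_pos n)
    rw [dig, pow_succ']
    nlinarith

theorem dig_inj (hb : 0 < b) : ∀ (n : ℕ) (d e : ℕ → ℕ), (∀ j < n, d j < b) → (∀ j < n, e j < b) →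
    dig b n d = dig b n e → ∀ j < n, d j = e j
  | 0, _, _, _, _, _, j, hj => absurd hj (Nat.not_lt_zero j)
  | n + 1, d, e, hd, he, h, j, hj => by
    rw [dig, dig] at h
    have h0 := congrArg (· % b) h
    simp only [Nat.add_mul_mod_self_left, Nat.mod_eq_of_lt (hd 0 (Nat.succ_pos n)),
      Nat.mod_eq_of_lt (he 0 (Nat.succ_pos n))] at h0
    cases j with
    | zero => exact h0
    | succ j =>
      rw [h0, add_right_inj] at h
      exact dig_inj hb n _ _ (fun i hi => hd (i + 1) (Nat.succ_lt_succ hi))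
        (fun i hi => he (i + 1) (Nat.succ_lt_succ hi))
        (Nat.eq_of_mul_eq_mul_left hb h) j (Nat.lt_of_succ_lt_succ hj)

theorem dig_digit (hb : 0 < b) : ∀ (n : ℕ) (d : ℕ → ℕ) (k : ℕ), (∀ j < n, d j < b) → k < n →
    dig b n d / b ^ k % b = d k
  | 0, _, _, _, hk => absurd hk (Nat.not_lt_zero _)
  | n + 1, d, 0, hd, _ => by
    rw [dig, pow_zero, Nat.div_one, Nat.add_mul_mod_self_left,
      Nat.mod_eq_of_lt (hd 0 (Nat.succ_pos n))]
  | n + 1, d, k + 1, hd, hk => by
    rw [dig, pow_succ', ← Nat.div_div_eq_div_mul, Nat.add_mul_div_left _ _ hb,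
      Nat.div_eq_of_lt (hd 0 (Nat.succ_pos n)), Nat.zero_add]
    exact dig_digit hb n _ k (fun j hj => hd (j + 1) (Nat.succ_lt_succ hj))
      (Nat.lt_of_succ_lt_succ hk)

theorem dig_digits : ∀ (n r : ℕ), r < b ^ n → r = dig b n fun j => r / b ^ j % b
  | 0, r, h => by simpa [dig] using h
  | n + 1, r, h => by
    have h' : r / b < b ^ n := by
      rw [Nat.div_lt_iff_lt_mul (by
        rcases Nat.eq_zero_or_pos b with hb | hb
        · simp [hb] at h
        · exact hb)]
      rwa [← pow_succ]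
    have ih := dig_digits n (r / b) h'
    rw [dig, pow_zero, Nat.div_one]
    have e : (dig b n fun j => r / b ^ (j + 1) % b) = r / b := by
      conv_rhs => rw [ih]
      exact dig_congr _ _ _ fun j _ => by rw [pow_succ', Nat.div_div_eq_div_mul]
    rw [e, Nat.mod_add_div]

theorem dig_append : ∀ (n k : ℕ) (d : ℕ → ℕ),
    dig b (n + k) d = dig b n d + b ^ n * dig b k fun j => d (n + j)
  | 0, k, d => by simp [dig]
  | n + 1, k, d => by
    rw [Nat.add_right_comm n 1 k, dig, dig, dig_append n k, pow_succ']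
    simp only [Nat.add_right_comm n 1]
    ring

theorem dig_flat : ∀ (m n : ℕ) (d : ℕ → ℕ),
    dig b (m * n) d = dig (b ^ n) m fun i => dig b n fun j => d (n * i + j)
  | 0, n, d => by simp [dig]
  | m + 1, n, d => by
    rw [show (m + 1) * n = n + m * n by ring, dig_append, dig_flat m n, dig]
    congr 1
    · exact dig_congr _ _ _ fun j _ => by simp
    · congr 1
      exact dig_congr _ _ _ fun i _ => dig_congr _ _ _ fun j _ => by
        rw [Nat.mul_succ]
        congr 1
        omega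

theorem dig_one : ∀ n : ℕ, (b - 1) * (dig b n fun _ => 1) = b ^ n - 1
  | 0 => by simp [dig]
  | n + 1 => by
    rw [dig, Nat.mul_add, Nat.mul_one, ← Nat.mul_assoc, Nat.mul_comm (b - 1) b, Nat.mul_assoc,
      dig_one n, pow_succ']
    rcases Nat.eq_zero_or_pos b with hb | hb
    · simp [hb]
    · have h1 : 1 ≤ b ^ n := Nat.one_le_pow _ _ hb
      rw [Nat.mul_sub, Nat.mul_one]
      have h2 : b ≤ b * b ^ n := Nat.le_mul_of_pos_right b h1
      omega

theorem dig_const (hb : 2 ≤ b) (n c : ℕ) : (dig b n fun _ => c) = c * geom b n := by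
  rw [geom, ← dig_one n, Nat.mul_div_cancel_left _ (by omega : 0 < b - 1), dig_mul]
  simp

theorem dig_pow (c : ℕ) : ∀ n : ℕ, (dig b n fun i => c ^ i) = dig (b * c) n fun _ => 1
  | 0 => rfl
  | n + 1 => by
    rw [dig, dig, pow_zero, ← dig_pow c n, Nat.mul_assoc, dig_mul n c]
    congr 2
    exact dig_congr _ _ _ fun j _ => pow_succ' c j

theorem dig_single : ∀ (n i : ℕ), i < n → (dig b n fun j => if j = i then 1 else 0) = b ^ i
  | 0, i, h => absurd h (Nat.not_lt_zero i)
  | n + 1, 0, _ => by simp [dig, dig_zero]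
  | n + 1, i + 1, h => by
    rw [dig, if_neg (by omega), Nat.zero_add, pow_succ',
      ← dig_single n i (Nat.lt_of_succ_lt_succ h)]
    simp

theorem and_split (m a c x : ℕ) (hc : c < 2 ^ m) :
    a &&& (c + 2 ^ m * x) = (a % 2 ^ m &&& c) + 2 ^ m * (a / 2 ^ m &&& x) := by
  have h1 : (a &&& (c + 2 ^ m * x)) % 2 ^ m = a % 2 ^ m &&& c := by
    rw [Nat.and_mod_two_pow, Nat.add_mul_mod_self_left, Nat.mod_eq_of_lt hc]
  have h2 : (a &&& (c + 2 ^ m * x)) / 2 ^ m = a / 2 ^ m &&& x := by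
    rw [Nat.and_div_two_pow, Nat.add_mul_div_left _ _ (Nat.two_pow_pos m), Nat.div_eq_of_lt hc,
      Nat.zero_add]
  rw [← h1, ← h2, Nat.mod_add_div]

/-- the slot `k` of every row -/
theorem col_aux (s t k : ℕ) (hk : k < t) : ∀ (n : ℕ) (R : ℕ → ℕ), (∀ i, R i < (2 ^ s) ^ t) →
    dig ((2 ^ s) ^ t) n R / (2 ^ s) ^ k &&& (dig ((2 ^ s) ^ t) n fun _ => 2 ^ s - 1) =
      dig ((2 ^ s) ^ t) n fun i => R i / (2 ^ s) ^ k % 2 ^ s
  | 0, _, _ => by simp [dig]
  | n + 1, R, hR => by
    have ih := col_aux s t k hk n (fun i => R (i + 1)) fun i => hR (i + 1)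
    have hb : 0 < 2 ^ s := Nat.two_pow_pos s
    have hc : 2 ^ s - 1 < 2 ^ (s * t) := by
      have : 2 ^ s ≤ 2 ^ (s * t) := Nat.pow_le_pow_right (by norm_num) (Nat.le_mul_of_pos_right s (by omega))
      omega
    rw [dig, dig, dig]
    generalize (dig ((2 ^ s) ^ t) n fun i => R (i + 1)) = Y at ih ⊢
    rw [← pow_mul 2 s t] at ih hR ⊢
    rw [and_split _ _ _ _ hc]
    have e : 2 ^ (s * t) = (2 ^ s) ^ k * (2 ^ s * (2 ^ s) ^ (t - k - 1)) := by
      rw [← pow_succ', ← pow_add, pow_mul]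
      congr 1
      omega
    congr 1
    · rw [Nat.and_two_pow_sub_one_eq_mod, Nat.mod_mod_of_dvd _ (Nat.pow_dvd_pow 2
        (Nat.le_mul_of_pos_right s (by omega))), e, Nat.mul_assoc,
        Nat.add_mul_div_left _ _ (pow_pos hb k), Nat.mul_assoc, Nat.add_mul_mod_self_left]
    · congr 1
      rw [Nat.div_div_eq_div_mul, Nat.mul_comm ((2 ^ s) ^ k) (2 ^ (s * t)), ← Nat.div_div_eq_div_mul,
        Nat.add_mul_div_left _ _ (Nat.two_pow_pos _), Nat.div_eq_of_lt (hR 0), Nat.zero_add]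
      exact ih

theorem slot_quot {a : ℕ} (h : a ≤ 2559) : a * 1639 / 2 ^ 13 = a / 5 ∧ a / 5 < 2 ^ 9 := by
  constructor <;> omega

theorem quot_dig : ∀ (n N : ℕ) (d : ℕ → ℕ), n ≤ N → (∀ j, d j ≤ 2559) →
    ((dig B n d * 1639) >>> 13) &&& (dig B N fun _ => 511) = dig B n fun j => d j / 5
  | 0, _, _, _, _ => by simp [dig]
  | n + 1, 0, _, h, _ => absurd h (Nat.not_succ_le_zero n)
  | n + 1, N + 1, d, h, hd => by
    obtain ⟨hq, hq'⟩ := slot_quot (hd 0)
    have ih := quot_dig n N (fun j => d (j + 1)) (Nat.le_of_succ_le_succ h) fun j => hd (j + 1)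
    rw [Nat.shiftRight_eq_div_pow] at ih
    rw [dig, dig, dig, Nat.shiftRight_eq_div_pow]
    generalize (dig B n fun j => d (j + 1)) = X at ih ⊢
    rw [show B = 2 ^ 22 from rfl] at *
    rw [and_split _ _ _ _ (by norm_num)]
    have e : (d 0 + 2 ^ 22 * X) * 1639 / 2 ^ 13 = d 0 / 5 + 2 ^ 9 * (X * 1639) := by
      rw [← hq, show (d 0 + 2 ^ 22 * X) * 1639 = d 0 * 1639 + 2 ^ 13 * (2 ^ 9 * (X * 1639)) by ring,
        Nat.add_mul_div_left _ _ (by norm_num)]
    rw [e]
    have e1 : (d 0 / 5 + 2 ^ 9 * (X * 1639)) / 2 ^ 22 = X * 1639 / 2 ^ 13 := by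
      rw [show (2 : ℕ) ^ 22 = 2 ^ 9 * 2 ^ 13 by norm_num, ← Nat.div_div_eq_div_mul,
        Nat.add_mul_div_left _ _ (by norm_num : 0 < 2 ^ 9), Nat.div_eq_of_lt hq', Nat.zero_add]
    have e2 : (d 0 / 5 + 2 ^ 9 * (X * 1639)) % 2 ^ 22 &&& 511 = d 0 / 5 := by
      rw [show (511 : ℕ) = 2 ^ 9 - 1 by norm_num, Nat.and_two_pow_sub_one_eq_mod,
        Nat.mod_mod_of_dvd _ (Nat.pow_dvd_pow 2 (by norm_num)), Nat.add_mul_mod_self_left,
        Nat.mod_eq_of_lt hq']
    rw [e2, e1, ih]

theorem red_dig (n : ℕ) (hn : n ≤ 12321) (d : ℕ → ℕ) (hd : ∀ j, d j ≤ 2559) :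
    red (dig B n d) = dig B n fun j => d j % 5 := by
  have hm : mask = dig B 12321 fun _ => 511 := (dig_const (by norm_num) 12321 511).symm
  rw [red, hm, quot_dig n 12321 d hn hd, dig_mul]
  have e : dig B n d = (dig B n fun j => d j % 5) + dig B n fun j => 5 * (d j / 5) := by
    rw [dig_add]
    exact dig_congr _ _ _ fun j _ => (Nat.mod_add_div _ _).symm
  rw [e, Nat.add_sub_cancel]

end Dig

/-- the matrix of a list of packed rows -/
def matOf (R : List ℕ) : Matrix (Fin 111) (Fin 111) (ZMod 5) :=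
  fun i j => ((R.getD i 0 / B ^ (j : ℕ) % B : ℕ) : ZMod 5)

/-- an entry of a matrix as a natural number -/
def entry (P : Matrix (Fin 111) (Fin 111) (ZMod 5)) (i j : ℕ) : ℕ :=
  if h : i < 111 ∧ j < 111 then (P ⟨i, h.1⟩ ⟨j, h.2⟩).val else 0

/-- the number packing a matrix -/
def packM (P : Matrix (Fin 111) (Fin 111) (ZMod 5)) : ℕ :=
  dig RB 111 fun i => dig B 111 fun j => entry P i j

theorem entry_le (P : Matrix (Fin 111) (Fin 111) (ZMod 5)) (i j : ℕ) : entry P i j ≤ 4 := by
  unfold entry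
  split_ifs with h
  · have := ZMod.val_lt (P ⟨i, h.1⟩ ⟨j, h.2⟩)
    omega
  · exact Nat.zero_le _

theorem entry_lt (P : Matrix (Fin 111) (Fin 111) (ZMod 5)) (i j : ℕ) : entry P i j < B := by
  have := entry_le P i j
  show _ < 2 ^ 22
  omega

theorem row_lt (P : Matrix (Fin 111) (Fin 111) (ZMod 5)) (i : ℕ) :
    (dig B 111 fun j => entry P i j) < RB :=
  dig_lt (Nat.two_pow_pos 22) 111 _ fun j _ => entry_lt P i j

theorem packM_inj {P Q : Matrix (Fin 111) (Fin 111) (ZMod 5)} (h : packM P = packM Q) : P = Q := by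
  refine Matrix.ext fun i j => ?_
  have h1 := dig_inj (pow_pos (Nat.two_pow_pos 22) 111) 111 _ _ (fun i _ => row_lt P i)
    (fun i _ => row_lt Q i) h i i.isLt
  have h2 := dig_inj (Nat.two_pow_pos 22) 111 _ _ (fun k _ => entry_lt P i k)
    (fun k _ => entry_lt Q i k) h1 j j.isLt
  simp only [entry, dif_pos (And.intro i.isLt j.isLt)] at h2
  exact ZMod.val_injective 5 h2

theorem packM_one : packM 1 = oneS := by
  have h1 : oneS = dig (RB * B) 111 fun _ => 1 := by
    rw [dig_const (le_trans (by norm_num : 2 ≤ B) (Nat.le_mul_of_pos_left B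
      (pow_pos (Nat.two_pow_pos 22) 111))), Nat.one_mul]
    rfl
  rw [h1, ← dig_pow]
  refine dig_congr _ _ _ fun i hi => ?_
  rw [← dig_single 111 i hi]
  refine dig_congr _ _ _ fun j hj => ?_
  rw [entry, dif_pos ⟨hi, hj⟩, Matrix.one_apply]
  by_cases h : j = i
  · rw [if_pos h, if_pos (Fin.ext h.symm), ZMod.val_one]
  · rw [if_neg h, if_neg fun h' => h (congrArg Fin.val h').symm, ZMod.val_zero]

/-- the partial product sums -/
def acc (d : ℕ → ℕ → ℕ) (i j : ℕ) : List ℕ → ℕ → ℕ
  | [], _ => 0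
  | r :: R, k => d i k * (r / B ^ j % B) + acc d i j R (k + 1)

theorem col_eq (d : ℕ → ℕ → ℕ) (hd : ∀ i j, d i j < B) {k : ℕ} (hk : k < 111) :
    (dig RB 111 fun i => dig B 111 (d i)) / B ^ k &&& colMask = dig RB 111 fun i => d i k := by
  have hm : colMask = dig RB 111 fun _ => 2 ^ 22 - 1 :=
    (dig_const (Nat.le_self_pow (by norm_num) _ |>.trans' (by norm_num)) 111 (B - 1)).symm
  rw [hm, col_aux 22 111 k hk 111 _ fun i => dig_lt (Nat.two_pow_pos 22) 111 _ fun j _ => hd i j]
  exact dig_congr _ _ _ fun i _ => dig_digit (Nat.two_pow_pos 22) 111 _ k (fun j _ => hd i j) hk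

theorem prodRows_eq (d : ℕ → ℕ → ℕ) (hd : ∀ i j, d i j < B) : ∀ (R : List ℕ) (k : ℕ),
    k + R.length ≤ 111 → (∀ r ∈ R, r < RB) →
    prodRows R ((dig RB 111 fun i => dig B 111 (d i)) / B ^ k) =
      dig RB 111 fun i => dig B 111 fun j => acc d i j R k
  | [], k, _, _ => by
    rw [prodRows]
    exact ((dig_congr _ _ _ fun i _ => dig_zero 111).trans (dig_zero 111)).symm
  | r :: R, k, hk, hr => by
    rw [List.length_cons] at hk
    have ih := prodRows_eq d hd R (k + 1) (by omega) fun x hx => hr x (List.mem_cons_of_mem _ hx)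
    rw [prodRows, Nat.shiftRight_eq_div_pow, Nat.div_div_eq_div_mul, ← pow_succ, ih,
      col_eq d hd (by omega), dig_mul_right, dig_add]
    refine dig_congr _ _ _ fun i _ => ?_
    conv_lhs => rw [dig_digits 111 r (hr r List.mem_cons_self)]
    rw [dig_mul, dig_add]
    rfl

theorem acc_eq (d : ℕ → ℕ → ℕ) (i j : ℕ) : ∀ (R : List ℕ) (k : ℕ),
    acc d i j R k = ∑ t ∈ Finset.range R.length, d i (k + t) * (R.getD t 0 / B ^ j % B)
  | [], k => by simp [acc]
  | r :: R, k => by
    rw [acc, acc_eq d i j R (k + 1), List.length_cons, Finset.sum_range_succ', Nat.add_comm]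
    congr 1
    refine Finset.sum_congr rfl fun t _ => ?_
    rw [List.getD_cons_succ, Nat.add_right_comm, Nat.add_assoc]

theorem shape_spec {R : List ℕ} (hR : shapeOK R = true) :
    R.length = 111 ∧ (∀ r ∈ R, r < RB) ∧ ∀ r ∈ R, ∀ j, j < 111 → r / B ^ j % B ≤ 4 := by
  rw [shapeOK, Bool.and_eq_true, Nat.beq_eq, List.all_eq_true] at hR
  have h7 : 7 * geom B 111 = dig B 111 fun _ => 7 := (dig_const (by norm_num) 111 7).symm
  have hlt : ∀ r ∈ R, r < RB := fun r hr => by
    have h := hR.2 r hr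
    rw [Bool.and_eq_true, Nat.beq_eq, Nat.beq_eq, h7] at h
    calc r = r &&& dig B 111 fun _ => 7 := h.1.symm
      _ ≤ dig B 111 fun _ => 7 := Nat.and_le_right
      _ < RB := dig_lt (Nat.two_pow_pos 22) 111 _ fun _ _ => by norm_num
  refine ⟨hR.1, hlt, fun r hr => ?_⟩
  have h := hR.2 r hr
  rw [Bool.and_eq_true, Nat.beq_eq, Nat.beq_eq, h7] at h
  have hseven : ∀ j, j < 111 → r / B ^ j % B ≤ 7 := fun j hj => by
    have e := congrArg (fun x => x / B ^ j % B) h.1
    rw [show B = 2 ^ 22 from rfl, ← pow_mul, Nat.and_div_two_pow, Nat.and_mod_two_pow,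
      pow_mul, dig_digit (Nat.two_pow_pos 22) 111 _ j (fun _ _ => by norm_num) hj] at e
    rw [show B = 2 ^ 22 from rfl, ← e]
    exact Nat.and_le_right
  set d : ℕ → ℕ := fun j => if j < 111 then r / B ^ j % B else 0 with hd
  have hr' : r = dig B 111 d := by
    conv_lhs => rw [dig_digits 111 r (hlt r hr)]
    exact dig_congr _ _ _ fun j hj => by simp only [hd, if_pos hj]
  have hd7 : ∀ j, d j ≤ 7 := fun j => by
    simp only [hd]
    split_ifs with hj
    · exact hseven j hj
    · exact Nat.zero_le _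
  have h2 := h.2
  rw [hr', red_dig 111 (by norm_num) d fun j => (hd7 j).trans (by norm_num)] at h2
  intro j hj
  have e := dig_inj (Nat.two_pow_pos 22) 111 _ _
    (fun t _ => lt_of_le_of_lt ((Nat.mod_le _ _).trans (hd7 t)) (by norm_num))
    (fun t _ => lt_of_le_of_lt (hd7 t) (by norm_num)) h2 j hj
  simp only [hd, if_pos hj] at e
  omega

/-- the product rule -/
theorem stepM_packM {R : List ℕ} (hR : shapeOK R = true) (P : Matrix (Fin 111) (Fin 111) (ZMod 5)) :
    stepM R (packM P) = packM (P * matOf R) := by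
  obtain ⟨hlen, hlt, hdig⟩ := shape_spec hR
  have h0 := prodRows_eq (entry P) (entry_lt P) R 0 (by omega) hlt
  rw [pow_zero, Nat.div_one] at h0
  rw [stepM, packM, h0]
  set f : ℕ → ℕ := fun n => if n % 111 < 111 then acc (entry P) (n / 111) (n % 111) R 0 else 0
    with hf
  have hbound : ∀ i j, j < 111 → acc (entry P) i j R 0 ≤ 2559 := fun i j hj => by
    rw [acc_eq, hlen]
    refine le_trans (Finset.sum_le_sum (g := fun _ => 16) fun t ht => ?_) (by simp)
    rw [Finset.mem_range] at ht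
    refine Nat.mul_le_mul (entry_le P _ _) (hdig _ ?_ j hj)
    rw [List.getD_eq_getElem _ _ (by omega)]
    exact List.getElem_mem _
  have hflat : (dig RB 111 fun i => dig B 111 fun j => acc (entry P) i j R 0) = dig B (111 * 111) f := by
    rw [dig_flat]
    refine dig_congr _ _ _ fun i _ => dig_congr _ _ _ fun j hj => ?_
    have h1 : (111 * i + j) / 111 = i := by omega
    have h2 : (111 * i + j) % 111 = j := by omega
    simp only [hf, h1, h2, if_pos hj]
  rw [hflat, red_dig (111 * 111) (by norm_num) f fun n => by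
    simp only [hf, if_pos (Nat.mod_lt n (by norm_num : 0 < 111))]
    exact hbound _ _ (Nat.mod_lt n (by norm_num)), dig_flat]
  refine dig_congr _ _ _ fun i hi => dig_congr _ _ _ fun j hj => ?_
  have h1 : (111 * i + j) / 111 = i := by omega
  have h2 : (111 * i + j) % 111 = j := by omega
  simp only [hf, h1, h2, if_pos hj]
  rw [entry, dif_pos ⟨hi, hj⟩, ← ZMod.val_natCast, acc_eq, hlen, Finset.sum_range, Matrix.mul_apply,
    Nat.cast_sum]
  refine congrArg ZMod.val (Finset.sum_congr rfl fun t _ => ?_)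
  rw [Nat.cast_mul, Nat.zero_add, matOf, entry, dif_pos ⟨hi, t.isLt⟩, ZMod.natCast_zmod_val]

theorem runM_packM (A : ℕ → List ℕ) (hA : ∀ x, shapeOK (A x) = true) :
    ∀ (w : List ℕ) (P : Matrix (Fin 111) (Fin 111) (ZMod 5)),
      runM A w (packM P) = packM (P * (w.map fun x => matOf (A x)).prod)
  | [], P => by simp [runM]
  | x :: w, P => by
    rw [runM, stepM_packM (hA x), runM_packM A hA w, List.map_cons, List.prod_cons, Matrix.mul_assoc]

end CfsgLib.LyRep96
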