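import Cfsg.Agent.LyRep96.Packed
import Cfsg.Agent.LyRep96.Data
import Cfsg.Agent.Eq.Def_Spor_Ly

/-!
Matrix words of the relators of the presented Lyons group.
-/

set_option autoImplicit false

namespace CfsgLib.LyRep96

open Cfsg.Spor

/-- the number of a generator -/
def genNum : Ly.Gen → ℕ
  | .a => 0
  | .b => 1
  | .c => 2
  | .d => 3
  | .z => 4
  | .e => 5
  | .a1 => 6
  | .a2 => 7
  | .a3 => 8
  | .a4 => 9
  | .c1 => 10
  | .c2 => 11
  | .c3 => 12
  | .c4 => 13
  | .c5 => 14
  | .u => 15
  | .x23 => 16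
  | .x24 => 17
  | .x25 => 18
  | .x29 => 19
  | .x47 => 20
  | .x96 => 21
  | .x129 => 22
  | .x162 => 23
  | .x163 => 24
  | .x164 => 25
  | .x165 => 26
  | .x166 => 27
  | .x167 => 28
  | .x168 => 29
  | .x169 => 30
  | .x364 => 31
  | .x365 => 32
  | .x366 => 33
  | .x367 => 34
  | .x368 => 35
  | .x369 => 36
  | .x370 => 37
  | .x371 => 38

/-- the letter of a signed generator -/
def enc (p : Ly.Gen × Bool) : ℕ := if p.2 then 2 * genNum p.1 else 2 * genNum p.1 + 1

/-- the inverse letter -/
def invL (x : ℕ) : ℕ := if x % 2 = 0 then x + 1 else x - 1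

/-- the word acts as the identity -/
def idOK (w : List ℕ) : Bool := Nat.beq (runM matL w oneS) oneS

/-- two words act in the same way -/
def sameOK (w w' : List ℕ) : Bool := Nat.beq (runM matL w oneS) (runM matL w' oneS)

/-- the matrix word of a relator -/
def relWord (i : ℕ) : List ℕ := (FreeGroup.toWord (Ly.extra.getD i 1)).map enc

end CfsgLib.LyRep96
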